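import Cfsg.Agent.Lib.Perm.SylowOvergroups.ThreeCycle

/-!
# The alternating group on a class of points and the structure theorem
-/

set_option autoImplicit false
set_option linter.unusedSectionVars false
set_option linter.style.haveILetI false

namespace CfsgLib.Perm.SylowOvergroups

open Equiv Equiv.Perm
open Subgroup (centralizer normalizer)

variable {α : Type*} [Fintype α] [DecidableEq α] {H : Subgroup (Perm α)}

/-- the alternating group on `Δ` inside the symmetric group -/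
def altOn (Δ : Finset α) : Subgroup (Perm α) :=
  (alternatingGroup {x // x ∈ Δ}).map (Perm.ofSubtype : Perm {x // x ∈ Δ} →* Perm α)

theorem mem_altOn {Δ : Finset α} {g : Perm α} :
    g ∈ altOn Δ ↔ Perm.sign g = 1 ∧ ∀ x, x ∉ Δ → g x = x := by
  constructor
  · rintro ⟨σ, hσ, rfl⟩
    exact ⟨by rw [Perm.sign_ofSubtype]; exact hσ,
      fun x hx => ofSubtype_apply_of_not_mem _ hx⟩
  · rintro ⟨hs, hfix⟩
    have hp : ∀ x, g x ∈ Δ ↔ x ∈ Δ := by
      intro x
      by_cases hx : g x = x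
      · rw [hx]
      · have h1 : x ∈ Δ := by_contra fun h => hx (hfix x h)
        exact ⟨fun _ => h1, fun _ => by_contra fun h => hx (g.injective (hfix _ h))⟩
    have e := ofSubtype_subtypePerm hp (fun x hx => by_contra fun h => hx (hfix x h))
    refine ⟨g.subtypePerm hp, ?_, e⟩
    show Perm.sign _ = 1
    rw [← Perm.sign_ofSubtype, e, hs]

theorem conj_mem_altOn {Δ : Finset α} {g a : Perm α} (hg : ∀ x, g x ∈ Δ ↔ x ∈ Δ)
    (ha : a ∈ altOn Δ) : g * a * g⁻¹ ∈ altOn Δ := by
  rw [mem_altOn] at ha ⊢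
  refine ⟨?_, fun x hx => ?_⟩
  · rw [map_mul, map_mul, ha.1, map_inv, mul_one, mul_inv_cancel]
  · have h1 : g⁻¹ x ∉ Δ := fun h => hx (by simpa using (hg (g⁻¹ x)).2 h)
    show g (a (g⁻¹ x)) = x
    rw [ha.2 _ h1]
    simp

theorem isThreeCycle_mem_altOn {Δ : Finset α} {t : Perm α} (ht : IsThreeCycle t)
    (h : t.support ⊆ Δ) : t ∈ altOn Δ :=
  mem_altOn.2 ⟨ht.sign, fun _ hx => notMem_support.1 fun hm => hx (h hm)⟩

theorem altOn_le {Δ : Finset α} (hΔ : ∀ a ∈ Δ, ∀ b ∈ Δ, Rel H a b) : altOn Δ ≤ H := by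
  rw [altOn, ← closure_three_cycles_eq_alternating, MonoidHom.map_closure, Subgroup.closure_le]
  rintro _ ⟨σ, hσ, rfl⟩
  obtain ⟨t, htdef⟩ : ∃ t, t = Perm.ofSubtype σ := ⟨_, rfl⟩
  show Perm.ofSubtype σ ∈ H
  rw [← htdef]
  have ht : IsThreeCycle t := by
    rw [htdef]
    exact (cycleType_ofSubtype).trans hσ
  have hsub : ∀ x, t x ≠ x → x ∈ Δ := fun x hx => by_contra fun h =>
    hx (by rw [htdef]; exact ofSubtype_apply_of_not_mem _ h)
  obtain ⟨a, ha⟩ : t.support.Nonempty :=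
    Finset.card_pos.1 (by rw [ht.card_support]; norm_num)
  have hn := ht.nodup_iff_mem_support.2 ha
  simp only [List.nodup_cons, List.mem_cons, List.not_mem_nil, or_false, not_or,
    List.nodup_nil, and_true, not_false_iff] at hn
  obtain ⟨⟨h1, h2⟩, h3⟩ := hn
  have hmem : ∀ x ∈ t.support, x ∈ Δ := fun x hx => hsub x (mem_support.1 hx)
  have hb := apply_mem_support.2 ha
  rw [ht.eq_swap_mul_swap_iff_mem_support.2 ha]
  exact cyc3_mem_of_rel h1 h2 h3 (hΔ _ (hmem _ ha) _ (hmem _ hb))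
    (hΔ _ (hmem _ ha) _ (hmem _ (apply_mem_support.2 hb)))

/-- a three-cycle in `H` with quasisimple `F*(H)` forces `F*(H)` to be alternating on a set `Δ`
fixed by `H`, and every small element of `H` moves a point of `Δ` -/
theorem exists_alt (hF : Cfsg.IsQuasisimple ↥(Cfsg.generalizedFittingSubgroup ↥H))
    (h3 : ∃ t ∈ H, IsThreeCycle t) :
    ∃ Δ : Finset α, 5 ≤ Δ.card ∧
      Nonempty (↥(Cfsg.generalizedFittingSubgroup ↥H) ≃* ↥(alternatingGroup {x // x ∈ Δ})) ∧
      (∀ h ∈ H, ∀ x, h x ∈ Δ ↔ x ∈ Δ) ∧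
      ∀ x ∈ H, x ≠ 1 → x.support.card ≤ 4 → ∃ a ∈ Δ, x a ≠ a := by
  classical
  obtain ⟨t, htH, ht⟩ := h3
  obtain ⟨a₀, ha₀⟩ : t.support.Nonempty :=
    Finset.card_pos.1 (by rw [ht.card_support]; norm_num)
  obtain ⟨Δ, hΔdef⟩ : ∃ Δ : Finset α, ∀ x, x ∈ Δ ↔ Rel H a₀ x :=
    ⟨Finset.univ.filter (Rel H a₀), fun x => by simp⟩
  have hrel : ∀ a ∈ Δ, ∀ b ∈ Δ, Rel H a b := fun a ha b hb =>
    rel_trans (rel_symm ((hΔdef a).1 ha)) ((hΔdef b).1 hb)
  have hAH := altOn_le hrel
  have htΔ : t.support ⊆ Δ := fun x hx => (hΔdef x).2 (Or.inr ⟨t, htH, ht, ha₀, hx⟩)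
  have h3pres : ∀ s ∈ H, IsThreeCycle s → ∀ x, s x ∈ Δ ↔ x ∈ Δ := by
    intro s hs hs3 x
    by_cases hx : s x = x
    · rw [hx]
    have hr : Rel H x (s x) := Or.inr ⟨s, hs, hs3, mem_support.2 hx,
      apply_mem_support.2 (mem_support.2 hx)⟩
    exact ⟨fun h => (hΔdef x).2 (rel_trans ((hΔdef _).1 h) (rel_symm hr)),
      fun h => (hΔdef _).2 (rel_trans ((hΔdef _).1 h) hr)⟩
  -- `F*(H)` lies in the subgroup generated by the three-cycles of `H`
  obtain ⟨N, hNdef⟩ : ∃ N, N = Subgroup.closure {s | s ∈ H ∧ IsThreeCycle s} := ⟨_, rfl⟩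
  have hNH : N ≤ H := hNdef ▸ (Subgroup.closure_le _).2 fun s hs => hs.1
  have hNconj : ∀ g ∈ H, ∀ n ∈ N, g * n * g⁻¹ ∈ N := by
    intro g hg n hn
    have hle : N ≤ N.comap (MulAut.conj g).toMonoidHom := by
      nth_rewrite 1 [hNdef]
      rw [Subgroup.closure_le]
      intro s hs
      show g * s * g⁻¹ ∈ N
      exact hNdef ▸ Subgroup.subset_closure ⟨H.mul_mem (H.mul_mem hg hs.1) (H.inv_mem hg),
        (cycleType_conj).trans hs.2⟩
    exact hle hn
  have hEN : fstarIn H ≤ N := by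
    refine (fstarIn_le_or_commute hF hNH fun e he => ?_).resolve_right fun hc => ?_
    · refine Subgroup.mem_normalizer_iff.2 fun n => ⟨hNconj e (fstarIn_le he) n, fun h => ?_⟩
      have h1 := hNconj e⁻¹ (H.inv_mem (fstarIn_le he)) _ h
      rwa [show e⁻¹ * (e * n * e⁻¹) * e⁻¹⁻¹ = n by group] at h1
    · exact not_commute_of_small_support hF htH ht.isCycle.ne_one (by rw [ht.card_support]; norm_num)
        (hc t (hNdef ▸ Subgroup.subset_closure ⟨htH, ht⟩))
  have hNpres : ∀ n ∈ N, ∀ x, n x ∈ Δ ↔ x ∈ Δ := by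
    intro n hn
    rw [hNdef] at hn
    induction hn using Subgroup.closure_induction with
    | mem s hs => exact h3pres s hs.1 hs.2
    | one => exact fun x => Iff.rfl
    | mul a b _ _ iha ihb => exact fun x => (iha (b x)).trans (ihb x)
    | inv a _ iha => exact fun x => by simpa using (iha (a⁻¹ x)).symm
  -- hence `F*(H) ≤ Alt(Δ)`
  have hEA : fstarIn H ≤ altOn Δ := by
    refine (fstarIn_le_or_commute hF hAH fun e he => ?_).resolve_right fun hc => ?_
    · have hp := hNpres e (hEN he)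
      refine Subgroup.mem_normalizer_iff.2 fun a => ⟨conj_mem_altOn hp, fun h => ?_⟩
      have h1 := conj_mem_altOn (g := e⁻¹) (hNpres e⁻¹ (hEN (Subgroup.inv_mem _ he))) h
      rwa [show e⁻¹ * (e * a * e⁻¹) * e⁻¹⁻¹ = a by group] at h1
    · exact not_commute_of_small_support hF htH ht.isCycle.ne_one (by rw [ht.card_support]; norm_num)
        (hc t (isThreeCycle_mem_altOn ht htΔ))
  have hsmall : ∀ x ∈ H, x ≠ 1 → x.support.card ≤ 4 → ∃ a ∈ Δ, x a ≠ a := by
    intro x hx hx1 h4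
    by_contra hno
    push Not at hno
    refine not_commute_of_small_support hF hx hx1 h4 fun e he => ?_
    refine Perm.Disjoint.commute fun y => ?_
    by_cases hy : y ∈ Δ
    · exact Or.inl (hno y hy)
    · exact Or.inr ((mem_altOn.1 (hEA he)).2 y hy)
  have h5 : 5 ≤ Δ.card := by
    by_contra hlt
    push Not at hlt
    apply not_isSolvable_fstarIn hF
    haveI : Group.IsSolvable (Perm {x // x ∈ Δ}) := by
      have hcard : Nat.card (Perm {x // x ∈ Δ}) = Δ.card.factorial := by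
        rw [Nat.card_eq_fintype_card, Fintype.card_perm, Fintype.card_coe]
      obtain ⟨k, hk⟩ : ∃ k, Δ.card = k := ⟨_, rfl⟩
      rw [hk] at hcard hlt
      interval_cases k
      · exact Char.isSolvable_of_card_two_primes Nat.prime_two Nat.prime_three _ 0 0
          (by rw [hcard]; rfl)
      · exact Char.isSolvable_of_card_two_primes Nat.prime_two Nat.prime_three _ 0 0
          (by rw [hcard]; rfl)
      · exact Char.isSolvable_of_card_two_primes Nat.prime_two Nat.prime_three _ 1 0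
          (by rw [hcard]; rfl)
      · exact Char.isSolvable_of_card_two_primes Nat.prime_two Nat.prime_three _ 1 1
          (by rw [hcard]; rfl)
      · exact Char.isSolvable_of_card_two_primes Nat.prime_two Nat.prime_three _ 3 1
          (by rw [hcard]; rfl)
    haveI : Group.IsSolvable ↥(altOn Δ) :=
      Group.isSolvable_of_surjective
        (f := ((alternatingGroup {x // x ∈ Δ}).equivMapOfInjective
          (Perm.ofSubtype : Perm {x // x ∈ Δ} →* Perm α) ofSubtype_injective).toMonoidHom)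
        (MulEquiv.surjective _)
    exact Group.isSolvable_of_isSolvable_injective (f := Subgroup.inclusion hEA)
      (Subgroup.inclusion_injective hEA)
  -- equality by simplicity
  haveI : IsSimpleGroup ↥(alternatingGroup {x // x ∈ Δ}) :=
    alternatingGroup.isSimpleGroup (by rwa [Nat.card_eq_fintype_card, Fintype.card_coe])
  obtain ⟨ψ, hψ⟩ : ∃ ψ : ↥(alternatingGroup {x // x ∈ Δ}) ≃* ↥(altOn Δ), ψ =
      (alternatingGroup {x // x ∈ Δ}).equivMapOfInjective _ ofSubtype_injective := ⟨_, rfl⟩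
  haveI : IsSimpleGroup ↥(altOn Δ) := ψ.isSimpleGroup_congr.1 inferInstance
  have hnorm : ((fstarIn H).subgroupOf (altOn Δ)).Normal :=
    ⟨fun x hx g => Subgroup.mem_subgroupOf.2
      (fstarIn_conj_mem (hAH g.2) (Subgroup.mem_subgroupOf.1 hx))⟩
  have hEeq : fstarIn H = altOn Δ := by
    rcases hnorm.eq_bot_or_eq_top with h | h
    · exact absurd (eq_bot_iff.2 fun e he => by
        have h1 : (⟨e, hEA he⟩ : ↥(altOn Δ)) ∈ (fstarIn H).subgroupOf (altOn Δ) := he
        rw [h, Subgroup.mem_bot] at h1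
        rw [Subgroup.mem_bot]
        exact congrArg Subtype.val h1) (fstarIn_ne_bot hF)
    · exact le_antisymm hEA (Subgroup.subgroupOf_eq_top.1 h)
  refine ⟨Δ, h5, ⟨fstarEquiv.trans ((MulEquiv.subgroupCongr hEeq).trans ψ.symm)⟩, ?_, hsmall⟩
  have hmaps : ∀ g ∈ H, ∀ x ∈ Δ, g x ∈ Δ := by
    intro g hg x hx
    have hr := (hΔdef x).1 hx
    have h' : Rel H (g a₀) (g x) := by
      rcases hr with e | ⟨s, hs, hs3, h1, h2⟩
      · exact Or.inl (congrArg g e)
      · refine Or.inr ⟨g * s * g⁻¹, H.mul_mem (H.mul_mem hg hs) (H.inv_mem hg),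
          (cycleType_conj).trans hs3, ?_, ?_⟩ <;> rw [support_conj]
        · exact Finset.mem_map_of_mem _ h1
        · exact Finset.mem_map_of_mem _ h2
    obtain ⟨c, hc, hmove⟩ := hsmall (g * t * g⁻¹) (H.mul_mem (H.mul_mem hg htH) (H.inv_mem hg))
      (by rw [ne_eq, conj_eq_one_iff]; exact ht.isCycle.ne_one)
      (by rw [card_support_conj, ht.card_support]; norm_num)
    have hc' : Rel H c (g a₀) := Or.inr ⟨g * t * g⁻¹,
      H.mul_mem (H.mul_mem hg htH) (H.inv_mem hg), (cycleType_conj).trans ht,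
      mem_support.2 hmove, by rw [support_conj]; exact Finset.mem_map_of_mem _ ha₀⟩
    exact (hΔdef _).2 (rel_trans ((hΔdef c).1 hc) (rel_trans hc' h'))
  intro g hg x
  exact ⟨fun h => by simpa using hmaps g⁻¹ (H.inv_mem hg) _ h, hmaps g hg x⟩

/-- a `p`-subgroup has a conjugate inside any given Sylow subgroup -/
theorem exists_conj_mem_sylow {G : Type*} [Group G] [Finite G] {p : ℕ} [Fact p.Prime]
    (P : Sylow p G) {Q : Subgroup G} (hQ : IsPGroup p Q) :
    ∃ g : G, ∀ q ∈ Q, g * q * g⁻¹ ∈ (P : Subgroup G) := by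
  obtain ⟨P', hP'⟩ := hQ.exists_le_sylow
  obtain ⟨g, hg⟩ := MulAction.exists_smul_eq G P' P
  refine ⟨g, fun q hq => ?_⟩
  rw [← hg, Sylow.coe_subgroup_smul]
  exact ⟨q, hP' hq, rfl⟩

/-- pairwise commuting elements with `x ^ p = 1` generate a `p`-group -/
theorem isPGroup_closure_of_commute {G : Type*} [Group G] {p : ℕ} {S : Set G}
    (hc : ∀ x ∈ S, ∀ y ∈ S, x * y = y * x) (hp : ∀ x ∈ S, x ^ p = 1) :
    IsPGroup p ↥(Subgroup.closure S) := by
  have hcomm := Subgroup.isMulCommutative_closure hc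
  have h : ∀ x ∈ Subgroup.closure S, x ^ p = 1 := by
    intro x hx
    induction hx using Subgroup.closure_induction with
    | mem s hs => exact hp s hs
    | one => exact one_pow p
    | mul a b ha hb iha ihb =>
        have e : Commute a b := congrArg Subtype.val
          (hcomm.is_comm.comm (⟨a, ha⟩ : ↥(Subgroup.closure S)) ⟨b, hb⟩)
        rw [e.mul_pow, iha, ihb, one_mul]
    | inv a _ iha => rw [inv_pow, iha, inv_one]
  exact fun x => ⟨1, Subtype.ext (by simpa using h x x.2)⟩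

end CfsgLib.Perm.SylowOvergroups
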