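import Cfsg.Agent.Lib.Coprime.Component
import Cfsg.Agent.Lib.Char.Burnside

/-!
# Permutation groups with quasisimple generalized Fitting subgroup

`fstarIn H` is `F*(H)` seen in the symmetric group.  When it is quasisimple, no nontrivial element
of `H` centralizing it can have a support whose symmetric group has solvable centralizer of it.
-/

set_option autoImplicit false
set_option linter.unusedSectionVars false
set_option linter.style.haveILetI false

namespace CfsgLib.Perm.SylowOvergroups

open Equiv Equiv.Perm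
open Subgroup (centralizer normalizer)
open scoped commutatorElement

variable {α : Type*} [Fintype α] [DecidableEq α] {H : Subgroup (Perm α)}

/-- the generalized Fitting subgroup of `H` as a subgroup of the symmetric group -/
def fstarIn (H : Subgroup (Perm α)) : Subgroup (Perm α) :=
  (Cfsg.generalizedFittingSubgroup ↥H).map H.subtype

theorem fstarIn_le : fstarIn H ≤ H := Subgroup.map_subtype_le _

noncomputable def fstarEquiv : ↥(Cfsg.generalizedFittingSubgroup ↥H) ≃* ↥(fstarIn H) :=
  (Cfsg.generalizedFittingSubgroup ↥H).equivMapOfInjective H.subtype H.subtype_injective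

theorem fstarIn_conj_mem {h e : Perm α} (hh : h ∈ H) (he : e ∈ fstarIn H) :
    h * e * h⁻¹ ∈ fstarIn H := by
  obtain ⟨x, hx, rfl⟩ := he
  exact ⟨⟨h, hh⟩ * x * ⟨h, hh⟩⁻¹,
    (Coprime.generalizedFitting_normal (G := ↥H)).conj_mem x hx ⟨h, hh⟩, rfl⟩

theorem le_normalizer_fstarIn : H ≤ normalizer (fstarIn H : Set (Perm α)) := by
  intro h hh
  refine Subgroup.mem_normalizer_iff.2 fun e => ⟨fun he => fstarIn_conj_mem hh he, fun he => ?_⟩
  have h1 := fstarIn_conj_mem (H.inv_mem hh) he
  rwa [show h⁻¹ * (h * e * h⁻¹) * h⁻¹⁻¹ = e by group] at h1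

/-- an element of `H` centralizing `F*(H)` lies in it -/
theorem mem_fstarIn_of_commute {x : Perm α} (hx : x ∈ H)
    (h : ∀ e ∈ fstarIn H, x * e = e * x) : x ∈ fstarIn H := by
  have h1 : (⟨x, hx⟩ : ↥H) ∈ centralizer
      (Cfsg.generalizedFittingSubgroup ↥H : Set ↥H) :=
    Subgroup.mem_centralizer_iff.2 fun e he => Subtype.ext (h _ ⟨e, he, rfl⟩).symm
  exact ⟨_, Coprime.centralizer_generalizedFitting_le h1, rfl⟩

section Quasi

variable (hF : Cfsg.IsQuasisimple ↥(Cfsg.generalizedFittingSubgroup ↥H))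
include hF

theorem isQuasisimple_fstarIn : Cfsg.IsQuasisimple ↥(fstarIn H) :=
  Coprime.isQuasisimple_congr fstarEquiv hF

theorem fstarIn_ne_bot : fstarIn H ≠ ⊥ := by
  intro h
  haveI := Coprime.nontrivial_of_isQuasisimple (isQuasisimple_fstarIn hF)
  exact (Subgroup.nontrivial_iff_ne_bot _).1 this h

theorem not_isSolvable_fstarIn : ¬ Group.IsSolvable ↥(fstarIn H) :=
  Coprime.not_isSolvable_of_isQuasisimple (isQuasisimple_fstarIn hF)

theorem commutator_fstarIn : ⁅fstarIn H, fstarIn H⁆ = fstarIn H := by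
  haveI := hF.1
  have h1 : ⁅(⊤ : Subgroup ↥(fstarIn H)), (⊤ : Subgroup ↥(fstarIn H))⁆ = ⊤ := by
    haveI := (isQuasisimple_fstarIn hF).1
    rw [← commutator_def]
    exact Group.IsPerfect.commutator_eq_top
  have h2 := congrArg (fun S => S.map (fstarIn H).subtype) h1
  simpa [Subgroup.map_commutator, ← MonoidHom.range_eq_map] using h2

/-- a subgroup of `H` normalized by `F*(H)` centralizes it or contains it -/
theorem fstarIn_le_or_commute {A : Subgroup (Perm α)} (hA : A ≤ H)
    (hnorm : fstarIn H ≤ normalizer (A : Set (Perm α))) :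
    fstarIn H ≤ A ∨ ∀ a ∈ A, ∀ e ∈ fstarIn H, a * e = e * a := by
  obtain ⟨E, hE⟩ : ∃ E, E = fstarIn H := ⟨_, rfl⟩
  rw [← hE] at hnorm ⊢
  have hAE : A ≤ normalizer (E : Set (Perm α)) := hE ▸ hA.trans le_normalizer_fstarIn
  have hcom : ⁅A, E⁆ ≤ A ⊓ E := by
    rw [Subgroup.commutator_le]
    intro a ha e he
    refine Subgroup.mem_inf.2 ⟨?_, ?_⟩
    · rw [commutatorElement_def, mul_assoc, mul_assoc, ← mul_assoc e]
      exact A.mul_mem ha ((Subgroup.mem_normalizer_iff.1 (hnorm he) a⁻¹).1 (A.inv_mem ha))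
    · rw [commutatorElement_def]
      exact E.mul_mem ((Subgroup.mem_normalizer_iff.1 (hAE ha) e).1 he) (E.inv_mem he)
  have hK : ((A ⊓ E).subgroupOf E).Normal := by
    refine ⟨fun x hx e => ?_⟩
    rw [Subgroup.mem_subgroupOf] at hx ⊢
    obtain ⟨h1, h2⟩ := Subgroup.mem_inf.1 hx
    exact Subgroup.mem_inf.2 ⟨(Subgroup.mem_normalizer_iff.1 (hnorm e.2) _).1 h1,
      E.mul_mem (E.mul_mem e.2 h2) (E.inv_mem e.2)⟩
  rcases Coprime.subnormal_eq_top_or_le_center
    (hE ▸ isQuasisimple_fstarIn hF : Cfsg.IsQuasisimple ↥E) hK.isSubnormal with h | h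
  · left
    intro e he
    have h1 : (⟨e, he⟩ : ↥E) ∈ (A ⊓ E).subgroupOf E := h ▸ Subgroup.mem_top _
    exact (Subgroup.mem_inf.1 h1).1
  · right
    have h2 : ⁅⁅A, E⁆, E⁆ = ⊥ := by
      rw [Coprime.commutator_eq_bot_iff_forall]
      intro x hx e he
      have h3 := h (Subgroup.mem_subgroupOf.2 (hcom hx) :
        (⟨x, (Subgroup.mem_inf.1 (hcom hx)).2⟩ : ↥E) ∈ (A ⊓ E).subgroupOf E)
      exact (congrArg Subtype.val (Subgroup.mem_center_iff.1 h3 ⟨e, he⟩)).symm
    exact Coprime.commutator_eq_bot_iff_forall.1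
      (Coprime.commutator_eq_bot_of_perfect (hE ▸ commutator_fstarIn hF) h2)

/-- an element of `H` whose centralizer on its support is solvable does not centralize `F*(H)` -/
theorem not_commute_of_solvable_centralizer {x : Perm α} (hx : x ∈ H) (hx1 : x ≠ 1)
    (hsol : Group.IsSolvable
      ↥(centralizer ({x.subtypePerm (fun _ => apply_mem_support) } :
        Set (Perm {a // a ∈ x.support})))) :
    ¬ ∀ e ∈ fstarIn H, x * e = e * x := by
  intro h
  have hxE := mem_fstarIn_of_commute hx h
  have hmem : ∀ e : ↥(fstarIn H), ∀ a, (e : Perm α) a ∈ x.support ↔ a ∈ x.support := by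
    intro e a
    rw [mem_support, mem_support, ne_eq, ne_eq, ← Perm.mul_apply, h _ e.2, Perm.mul_apply,
      EmbeddingLike.apply_eq_iff_eq]
  let f : ↥(fstarIn H) →* Perm {a // a ∈ x.support} :=
    { toFun := fun e => (e : Perm α).subtypePerm (hmem e)
      map_one' := by ext a; rfl
      map_mul' := fun e e' => by ext a; rfl }
  have hf : ∀ e, f e ∈ centralizer ({x.subtypePerm (fun _ => apply_mem_support) } :
      Set (Perm {a // a ∈ x.support})) := by
    intro e
    refine Subgroup.mem_centralizer_singleton_iff.2 ?_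
    ext a
    exact DFunLike.congr_fun (h _ e.2).symm (a : α)
  obtain ⟨g, hg⟩ : ∃ g : ↥(fstarIn H) →* _, g = f.codRestrict _ hf := ⟨_, rfl⟩
  haveI := (isQuasisimple_fstarIn hF).1
  haveI : Group.IsSolvable ↥g.range := inferInstance
  haveI : Group.IsPerfect ↥g.range :=
    Group.IsPerfect.ofSurjective (f := g.rangeRestrict) g.rangeRestrict_surjective
  have hg1 : g ⟨x, hxE⟩ = 1 := by
    by_contra hne
    haveI : Nontrivial ↥g.range :=
      ⟨⟨g.rangeRestrict ⟨x, hxE⟩, 1, fun e => hne (congrArg Subtype.val e)⟩⟩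
    exact Group.IsPerfect.not_isSolvable ↥g.range inferInstance
  obtain ⟨a, ha⟩ : ∃ a, x a ≠ a := by
    by_contra hno
    push Not at hno
    exact hx1 (Equiv.ext hno)
  subst hg
  refine ha ?_
  exact congrArg Subtype.val (DFunLike.congr_fun (congrArg Subtype.val hg1)
    (⟨a, mem_support.2 ha⟩ : {a // a ∈ x.support}))

/-- an element of `H` moving at most four points does not centralize `F*(H)` -/
theorem not_commute_of_small_support {x : Perm α} (hx : x ∈ H) (hx1 : x ≠ 1)
    (h4 : x.support.card ≤ 4) : ¬ ∀ e ∈ fstarIn H, x * e = e * x := by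
  refine not_commute_of_solvable_centralizer hF hx hx1 ?_
  haveI : Group.IsSolvable (Perm {a // a ∈ x.support}) := by
    have hcard : Nat.card (Perm {a // a ∈ x.support}) = x.support.card.factorial := by
      rw [Nat.card_eq_fintype_card, Fintype.card_perm, Fintype.card_coe]
    have : x.support.card = 0 ∨ x.support.card = 1 ∨ x.support.card = 2 ∨ x.support.card = 3 ∨
        x.support.card = 4 := by omega
    rcases this with e | e | e | e | e <;> rw [e] at hcard
    · exact Char.isSolvable_of_card_two_primes Nat.prime_two Nat.prime_three _ 0 0 (by rw [hcard]; rfl)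
    · exact Char.isSolvable_of_card_two_primes Nat.prime_two Nat.prime_three _ 0 0 (by rw [hcard]; rfl)
    · exact Char.isSolvable_of_card_two_primes Nat.prime_two Nat.prime_three _ 1 0 (by rw [hcard]; rfl)
    · exact Char.isSolvable_of_card_two_primes Nat.prime_two Nat.prime_three _ 1 1 (by rw [hcard]; rfl)
    · exact Char.isSolvable_of_card_two_primes Nat.prime_two Nat.prime_three _ 3 1 (by rw [hcard]; rfl)
  infer_instance

end Quasi

end CfsgLib.Perm.SylowOvergroups
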