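import Mathlib

/-!
# Two pairings whose double transpositions generate no three-cycle commute
-/

set_option autoImplicit false
set_option linter.unusedSectionVars false

namespace CfsgLib.Perm.SylowOvergroups

open Equiv Equiv.Perm

variable {α : Type*} [Fintype α] [DecidableEq α] {H : Subgroup (Perm α)}

/-- an involution on at least eight points whose pairs of transpositions lie in `H` -/
structure PairingIn (H : Subgroup (Perm α)) (ι : Perm α) : Prop where
  invol : ∀ x, ι (ι x) = x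
  eight : 8 ≤ ι.support.card
  mem : ∀ x y, ι x ≠ x → ι y ≠ y → y ≠ x → y ≠ ι x → swap x (ι x) * swap y (ι y) ∈ H

theorem PairingIn.conj {ι g : Perm α} (h : PairingIn H ι) (hg : g ∈ H) :
    PairingIn H (g * ι * g⁻¹) := by
  refine ⟨fun x => ?_, by rw [card_support_conj]; exact h.eight, fun x y hx hy h1 h2 => ?_⟩
  · show g (ι (g⁻¹ (g (ι (g⁻¹ x))))) = x
    simp [h.invol]
  · obtain ⟨x', rfl⟩ := g.surjective x
    obtain ⟨y', rfl⟩ := g.surjective y
    have e : ∀ z, (g * ι * g⁻¹) (g z) = g (ι z) := by intro z; simp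
    rw [e] at hx hy h2 ⊢
    rw [e, swap_apply_apply, swap_apply_apply,
      show g * swap x' (ι x') * g⁻¹ * (g * swap y' (ι y') * g⁻¹) =
        g * (swap x' (ι x') * swap y' (ι y')) * g⁻¹ by group]
    exact H.mul_mem (H.mul_mem hg (h.mem x' y' (fun c => hx (congrArg g c))
      (fun c => hy (congrArg g c)) (fun c => h1 (congrArg g c)) (fun c => h2 (congrArg g c))))
      (H.inv_mem hg)

variable {ι κ : Perm α}

theorem swap_disjoint_swap {a b c d : α} (h1 : c ≠ a) (h2 : c ≠ b) (h3 : d ≠ a) (h4 : d ≠ b) :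
    Commute (swap a b) (swap c d) := by
  refine Perm.Disjoint.commute fun z => ?_
  by_cases hz : z = a ∨ z = b
  · right
    rcases hz with rfl | rfl
    · exact swap_apply_of_ne_of_ne h1.symm h3.symm
    · exact swap_apply_of_ne_of_ne h2.symm h4.symm
  · push Not at hz
    exact Or.inl (swap_apply_of_ne_of_ne hz.1 hz.2)

/-- the meeting property: otherwise a three-cycle arises -/
theorem meet_of_no_threeCycle (hι : PairingIn H ι) (hκ : PairingIn H κ)
    (hno : ∀ t ∈ H, ¬ IsThreeCycle t) {x y y' : α} (hx : ι x ≠ x) (hx' : κ x ≠ x)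
    (hne : ι x ≠ κ x) (hy : ι y ≠ y) (hy1 : y ≠ x) (hy2 : y ≠ ι x) (hy3 : y ≠ κ x)
    (hy4 : y ≠ ι (κ x)) (hy' : κ y' ≠ y') (hz1 : y' ≠ x) (hz2 : y' ≠ κ x) (hz3 : y' ≠ ι x)
    (hz4 : y' ≠ κ (ι x)) : y' = y ∨ y' = ι y ∨ κ y' = y ∨ κ y' = ι y := by
  by_contra hcon
  push Not at hcon
  obtain ⟨d1, d2, d3, d4⟩ := hcon
  have a1 : ι y ≠ x := fun e => hy2 (by rw [← e, hι.invol])
  have a2 : ι y ≠ ι x := fun e => hy1 (ι.injective e)
  have a3 : ι y ≠ κ x := fun e => hy4 (by rw [← e, hι.invol])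
  have b1 : κ y' ≠ x := fun e => hz2 (by rw [← e, hκ.invol])
  have b2 : κ y' ≠ κ x := fun e => hz1 (κ.injective e)
  have b3 : κ y' ≠ ι x := fun e => hz4 (by rw [← e, hκ.invol])
  have c1 : Commute (swap x (κ x)) (swap y (ι y)) := swap_disjoint_swap hy1 hy3 a1 a3
  have c2 : Commute (swap x (ι x)) (swap y (ι y)) := swap_disjoint_swap hy1 hy2 a1 a2
  have c3 : Commute (swap x (κ x)) (swap y' (κ y')) := swap_disjoint_swap hz1 hz2 b1 b2
  have c4 : Commute (swap x (ι x)) (swap y' (κ y')) := swap_disjoint_swap hz1 hz3 b1 b3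
  have c5 : Commute (swap y (ι y)) (swap y' (κ y')) := swap_disjoint_swap d1 d2 d3 d4
  obtain ⟨u, hu⟩ : ∃ u, u = swap x (ι x) * swap x (κ x) := ⟨_, rfl⟩
  obtain ⟨v, hv⟩ : ∃ v, v = swap y (ι y) * swap y' (κ y') := ⟨_, rfl⟩
  have e : swap x (ι x) * swap y (ι y) * (swap x (κ x) * swap y' (κ y')) = u * v := by
    rw [hu, hv, mul_assoc, ← mul_assoc (swap y (ι y)), ← c1.eq]
    simp only [mul_assoc]
  have huv : Commute u v := by
    rw [hu, hv]
    exact (c2.mul_left c1).mul_right (c4.mul_left c3)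
  have hvv : v * v = 1 := by
    rw [hv, ← sq, c5.mul_pow, sq, sq, swap_mul_self, swap_mul_self, one_mul]
  have hmem := hι.mem x y hx hy hy1 hy2
  have hmem' := hκ.mem x y' hx' hy' hz1 hz2
  have h2 := H.mul_mem (H.mul_mem hmem hmem') (H.mul_mem hmem hmem')
  rw [e, ← sq, huv.mul_pow, sq v, hvv, mul_one, sq] at h2
  refine hno _ h2 (IsThreeCycle.isThreeCycle_sq ?_)
  rw [hu]
  exact isThreeCycle_swap_mul_swap_same (Ne.symm hx) (Ne.symm hx') hne

/-- the local structure at a point where the pairings differ -/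
theorem step (hι : PairingIn H ι) (hκ : PairingIn H κ) (hno : ∀ t ∈ H, ¬ IsThreeCycle t)
    {x : α} (hx : ι x ≠ x) (hx' : κ x ≠ x) (hne : ι x ≠ κ x) :
    (∃ y, ι y ≠ y ∧ y ≠ x ∧ y ≠ ι x ∧ y ≠ κ x ∧ y ≠ ι (κ x)) ∧
      ∀ y, ι y ≠ y → y ≠ x → y ≠ ι x → y ≠ κ x → y ≠ ι (κ x) →
        (κ y ≠ y ∧ ι y ≠ κ y) ∧ ι (κ y) = κ (ι y) ∧
          x ≠ y ∧ x ≠ ι y ∧ x ≠ κ y ∧ x ≠ ι (κ y) := by
  obtain ⟨Y, hY⟩ : ∃ Y : Finset α, Y = ι.support \ {x, ι x, κ x, ι (κ x)} := ⟨_, rfl⟩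
  obtain ⟨Y', hY'⟩ : ∃ Y' : Finset α, Y' = κ.support \ {x, κ x, ι x, κ (ι x)} := ⟨_, rfl⟩
  have hmY : ∀ y, y ∈ Y ↔ ι y ≠ y ∧ y ≠ x ∧ y ≠ ι x ∧ y ≠ κ x ∧ y ≠ ι (κ x) := by
    intro y; simp [hY]
  have hmY' : ∀ y, y ∈ Y' ↔ κ y ≠ y ∧ y ≠ x ∧ y ≠ κ x ∧ y ≠ ι x ∧ y ≠ κ (ι x) := by
    intro y; simp [hY']
  have h4 : 4 ≤ Y.card := by
    have h1 := Finset.le_card_sdiff {x, ι x, κ x, ι (κ x)} ι.support
    have h2 := (Finset.card_le_four (a := x) (b := ι x) (c := κ x) (d := ι (κ x)))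
    have := hι.eight
    rw [hY]; omega
  have h4' : 4 ≤ Y'.card := by
    have h1 := Finset.le_card_sdiff {x, κ x, ι x, κ (ι x)} κ.support
    have h2 := (Finset.card_le_four (a := x) (b := κ x) (c := ι x) (d := κ (ι x)))
    have := hκ.eight
    rw [hY']; omega
  have hmeet : ∀ y ∈ Y, ∀ y' ∈ Y', y' = y ∨ y' = ι y ∨ κ y' = y ∨ κ y' = ι y := by
    intro y hy y' hy'
    obtain ⟨p0, p1, p2, p3, p4⟩ := (hmY y).1 hy
    obtain ⟨q0, q1, q2, q3, q4⟩ := (hmY' y').1 hy'
    exact meet_of_no_threeCycle hι hκ hno hx hx' hne p0 p1 p2 p3 p4 q0 q1 q2 q3 q4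
  have hYeq : ∀ y' ∈ Y', Y = {y', ι y', κ y', ι (κ y')} := by
    intro y' hy'
    refine Finset.eq_of_subset_of_card_le (fun y hy => ?_) (Finset.card_le_four.trans h4)
    rcases hmeet y hy y' hy' with e | e | e | e <;>
      simp only [Finset.mem_insert, Finset.mem_singleton]
    · exact Or.inl e.symm
    · exact Or.inr (Or.inl (by rw [e, hι.invol]))
    · exact Or.inr (Or.inr (Or.inl e.symm))
    · exact Or.inr (Or.inr (Or.inr (by rw [e, hι.invol])))
  have hYeq' : ∀ y ∈ Y, Y' = {y, κ y, ι y, κ (ι y)} := by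
    intro y hy
    refine Finset.eq_of_subset_of_card_le (fun y' hy' => ?_) (Finset.card_le_four.trans h4')
    rcases hmeet y hy y' hy' with e | e | e | e <;>
      simp only [Finset.mem_insert, Finset.mem_singleton]
    · exact Or.inl e
    · exact Or.inr (Or.inr (Or.inl e))
    · exact Or.inr (Or.inl (by rw [← e, hκ.invol]))
    · exact Or.inr (Or.inr (Or.inr (by rw [← e, hκ.invol])))
  have hne4 : 0 < Y.card := by omega
  obtain ⟨y₁, hy₁⟩ := Finset.card_pos.1 hne4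
  refine ⟨⟨y₁, (hmY y₁).1 hy₁⟩, ?_⟩
  have hsub : Y' ⊆ Y := fun y' hy' => by rw [hYeq y' hy']; simp
  have hle : Y.card ≤ Y'.card := by
    obtain ⟨z, hz⟩ := Finset.card_pos.1 (show 0 < Y'.card by omega)
    have : Y.card ≤ 4 := by rw [hYeq z hz]; exact Finset.card_le_four
    omega
  have hYY : Y' = Y := Finset.eq_of_subset_of_card_le hsub hle
  intro y p0 p1 p2 p3 p4
  have hy : y ∈ Y := (hmY y).2 ⟨p0, p1, p2, p3, p4⟩
  have hy' : y ∈ Y' := hYY ▸ hy
  have hcard : Y.card = 4 := le_antisymm (by rw [hYeq y hy']; exact Finset.card_le_four) h4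
  have hk : κ y ≠ y := ((hmY' y).1 hy').1
  have hd : ι y ≠ κ y := by
    intro e
    have h3 : Y.card ≤ 3 := by
      rw [hYeq y hy', ← e, hι.invol]
      simp only [Finset.mem_insert, true_or, or_true, Finset.insert_eq_of_mem]
      refine (Finset.card_le_card (t := {y, ι y}) ?_).trans ?_
      · intro z; simp only [Finset.mem_insert, Finset.mem_singleton]; tauto
      · exact (Finset.card_insert_le _ _).trans (by simp)
    omega
  refine ⟨⟨hk, hd⟩, ?_, Ne.symm p1, ?_, ?_, ?_⟩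
  · have h1 : κ (ι y) ∈ Y := by
      rw [← hYY, hYeq' y hy]; simp
    have h2 : κ (κ (ι y)) ≠ κ (ι y) := ((hmY' _).1 (hYY ▸ h1)).1
    rw [hYeq y hy'] at h1
    simp only [Finset.mem_insert, Finset.mem_singleton] at h1
    rcases h1 with e | e | e | e
    · exact absurd (by rw [← hκ.invol (ι y), e]) hd
    · exact absurd (by rw [hκ.invol, e]) h2
    · exact absurd (κ.injective e) p0
    · exact e.symm
  · intro e
    exact p2 (by rw [e, hι.invol])
  · intro e
    exact p3 (by rw [e, hκ.invol])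
  · intro e
    have h1 : x ∈ Y := by rw [e, hYeq y hy']; simp
    exact ((hmY x).1 h1).2.1 rfl

/-- without three-cycles the pairings commute -/
theorem exists_threeCycle_or_commute (hι : PairingIn H ι) (hκ : PairingIn H κ) :
    (∃ t ∈ H, IsThreeCycle t) ∨ Commute ι κ := by
  by_cases hex : ∃ t ∈ H, IsThreeCycle t
  · exact Or.inl hex
  right
  push Not at hex
  have hbad : ∀ x, ι x ≠ x → κ x ≠ x → ι x ≠ κ x → ι (κ x) = κ (ι x) := by
    intro x hx hx' hne
    obtain ⟨⟨y, p0, p1, p2, p3, p4⟩, hall⟩ := step hι hκ hex hx hx' hne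
    obtain ⟨⟨q0, q1⟩, -, r1, r2, r3, r4⟩ := hall y p0 p1 p2 p3 p4
    exact ((step hι hκ hex p0 q0 q1).2 x hx r1 r2 r3 r4).2.1
  refine Equiv.ext fun z => ?_
  show ι (κ z) = κ (ι z)
  by_cases hz : ι z = z
  · rw [hz]
    by_cases hz' : κ z = z
    · rw [hz', hz]
    · by_contra hmove
      have h1 : ι (κ z) ≠ κ (κ z) := by
        rw [hκ.invol]
        exact fun e => hz' (ι.injective (e.trans hz.symm))
      have h2 := hbad (κ z) hmove (by rw [hκ.invol]; exact Ne.symm hz') h1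
      rw [hκ.invol, hz] at h2
      exact hmove (κ.injective (h2.symm.trans (hκ.invol z).symm))
  · by_cases hz' : κ z = z
    · rw [hz']
      by_contra hmove
      have h1 : ι (ι z) ≠ κ (ι z) := by
        rw [hι.invol]
        exact fun e => hz (κ.injective (e.symm.trans hz'.symm))
      have h2 := hbad (ι z) (by rw [hι.invol]; exact Ne.symm hz) (Ne.symm hmove) h1
      rw [hι.invol, hz'] at h2
      exact hmove (ι.injective ((hι.invol z).trans h2.symm))
    · by_cases he : ι z = κ z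
      · rw [← he, hι.invol, he, hκ.invol]
      · exact hbad z hz hz' he

end CfsgLib.Perm.SylowOvergroups
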