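import Cfsg.Agent.Lib.Perm.SylowOvergroups.Alt
import Cfsg.Agent.Lib.Perm.SylowOvergroups.Pairing

/-!
# A pairing on eight points forces a three-cycle
-/

set_option autoImplicit false
set_option linter.unusedSectionVars false
set_option linter.style.haveILetI false

namespace CfsgLib.Perm.SylowOvergroups

open Equiv Equiv.Perm
open Subgroup (centralizer normalizer)

variable {α : Type*} [Fintype α] [DecidableEq α] {H : Subgroup (Perm α)}

/-- the centralizer of an involution without fixed points on eight points is solvable -/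
theorem isSolvable_centralizer_of_eight {β : Type*} [Fintype β] [DecidableEq β] {σ : Perm β}
    (hσ : ∀ x, σ (σ x) = x) (hfix : ∀ x, σ x ≠ x) (hcard : Fintype.card β = 8) :
    Group.IsSolvable ↥(centralizer ({σ} : Set (Perm β))) := by
  have h2 : σ ^ 2 = 1 := Equiv.ext fun x => by rw [pow_two, Perm.mul_apply, hσ]; rfl
  have hne : σ ≠ 1 := by
    intro e
    haveI : Nonempty β := Fintype.card_pos_iff.1 (by omega)
    exact hfix (Classical.arbitrary β) (by rw [e]; rfl)
  haveI : Fact (Nat.Prime 2) := ⟨Nat.prime_two⟩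
  have hord : orderOf σ = 2 := orderOf_eq_prime h2 hne
  obtain ⟨k, hk⟩ := cycleType_prime_order (σ := σ) (hord ▸ Nat.prime_two)
  rw [hord] at hk
  have hsum : σ.cycleType.sum = 8 := by
    rw [sum_cycleType, ← hcard, show σ.support = Finset.univ from
      Finset.eq_univ_iff_forall.2 fun x => mem_support.2 (hfix x), Finset.card_univ]
  rw [hk, Multiset.sum_replicate, smul_eq_mul] at hsum
  have hk3 : k + 1 = 4 := by omega
  rw [hk3] at hk
  refine Char.isSolvable_of_card_two_primes Nat.prime_two Nat.prime_three _ 7 1 ?_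
  rw [nat_card_centralizer, hk, hcard]
  simp [Multiset.replicate_succ, Nat.factorial]

/-- if `H` contains a pairing on exactly eight points, it contains a three-cycle -/
theorem exists_threeCycle_of_pairing (hF : Cfsg.IsQuasisimple ↥(Cfsg.generalizedFittingSubgroup ↥H))
    {ι : Perm α} (hι : PairingIn H ι) (hιH : ι ∈ H) (h8 : ι.support.card = 8) :
    ∃ t ∈ H, IsThreeCycle t := by
  by_contra hno
  obtain ⟨M, hM⟩ : ∃ M, M = Subgroup.closure {s : Perm α | ∃ g ∈ H, s = g * ι * g⁻¹} := ⟨_, rfl⟩
  have hMH : M ≤ H := by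
    rw [hM, Subgroup.closure_le]
    rintro _ ⟨g, hg, rfl⟩
    exact H.mul_mem (H.mul_mem hg hιH) (H.inv_mem hg)
  have hcomm : ∀ x ∈ {s : Perm α | ∃ g ∈ H, s = g * ι * g⁻¹},
      ∀ y ∈ {s : Perm α | ∃ g ∈ H, s = g * ι * g⁻¹}, x * y = y * x := by
    rintro _ ⟨g, hg, rfl⟩ _ ⟨g', hg', rfl⟩
    exact ((exists_threeCycle_or_commute (hι.conj hg) (hι.conj hg')).resolve_left hno).eq
  have hsolM : Group.IsSolvable ↥M := by
    rw [hM]
    exact Group.isSolvable_of_comm fun a b =>
      (Subgroup.isMulCommutative_closure hcomm).is_comm.comm a b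
  have hconj : ∀ g ∈ H, ∀ n ∈ M, g * n * g⁻¹ ∈ M := by
    intro g hg n hn
    have hle : M ≤ M.comap (MulAut.conj g).toMonoidHom := by
      nth_rewrite 1 [hM]
      rw [Subgroup.closure_le]
      rintro _ ⟨g', hg', rfl⟩
      show g * (g' * ι * g'⁻¹) * g⁻¹ ∈ M
      rw [hM]
      exact Subgroup.subset_closure ⟨g * g', H.mul_mem hg hg', by group⟩
    exact hle hn
  rcases fstarIn_le_or_commute hF hMH (fun e he => Subgroup.mem_normalizer_iff.2 fun n =>
      ⟨hconj e (fstarIn_le he) n, fun h => by
        have h1 := hconj e⁻¹ (H.inv_mem (fstarIn_le he)) _ h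
        rwa [show e⁻¹ * (e * n * e⁻¹) * e⁻¹⁻¹ = n by group] at h1⟩) with h | h
  · exact not_isSolvable_fstarIn hF
      (Group.isSolvable_of_isSolvable_injective (f := Subgroup.inclusion h)
        (Subgroup.inclusion_injective h))
  · refine not_commute_of_solvable_centralizer hF hιH ?_ ?_
      (h ι (hM ▸ Subgroup.subset_closure ⟨1, H.one_mem, by simp⟩))
    · intro e
      rw [e, support_one] at h8
      simp at h8
    · exact isSolvable_centralizer_of_eight (fun x => Subtype.ext (hι.invol x.1))
        (fun x e => mem_support.1 x.2 (congrArg Subtype.val e))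
        (by rw [Fintype.card_coe, h8])

end CfsgLib.Perm.SylowOvergroups
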