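import Cfsg.Agent.Lib.Perm.SylowOvergroups.Involution

/-!
# Overgroups of a Sylow two-subgroup of the alternating group
-/

set_option autoImplicit false
set_option linter.unusedSectionVars false
set_option linter.style.haveILetI false

namespace CfsgLib.Perm.SylowOvergroups

open Equiv Equiv.Perm

variable {n : ℕ} {H : Subgroup (Perm (Fin n))}

/-- commuting even involutions can be conjugated into `H` -/
theorem exists_conj_mem_of_sylow
    (hS : ∃ P : Sylow 2 ↥(alternatingGroup (Fin n)),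
      ((P : Subgroup ↥(alternatingGroup (Fin n))).map (alternatingGroup (Fin n)).subtype) ≤ H)
    {S : Set (Perm (Fin n))} (heven : ∀ s ∈ S, Perm.sign s = 1)
    (hc : ∀ x ∈ S, ∀ y ∈ S, x * y = y * x) (h2 : ∀ x ∈ S, x ^ 2 = 1) :
    ∃ g : Perm (Fin n), ∀ s ∈ S, g * s * g⁻¹ ∈ H := by
  obtain ⟨P, hP⟩ := hS
  haveI : Fact (Nat.Prime 2) := ⟨Nat.prime_two⟩
  have hQ := isPGroup_closure_of_commute (p := 2)
    (S := ((alternatingGroup (Fin n)).subtype ⁻¹' S))
    (fun x hx y hy => Subtype.ext (hc _ hx _ hy)) (fun x hx => Subtype.ext (by simpa using h2 _ hx))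
  obtain ⟨g, hg⟩ := exists_conj_mem_sylow P hQ
  refine ⟨(g : Perm (Fin n)), fun s hs => hP ?_⟩
  exact ⟨g * (⟨s, heven s hs⟩ : ↥(alternatingGroup (Fin n))) * g⁻¹,
    hg _ (Subgroup.subset_closure hs), rfl⟩

theorem exists_threeCycle_of_sylow_two (hn : 8 ≤ n)
    (hF : Cfsg.IsQuasisimple ↥(Cfsg.generalizedFittingSubgroup ↥H))
    (hS : ∃ P : Sylow 2 ↥(alternatingGroup (Fin n)),
      ((P : Subgroup ↥(alternatingGroup (Fin n))).map (alternatingGroup (Fin n)).subtype) ≤ H) :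
    ∃ t ∈ H, IsThreeCycle t := by
  classical
  obtain ⟨p, hp⟩ : ∃ p : Fin n → Fin n, ∀ x : Fin n, (p x).val =
      if x.val < 8 then (if x.val % 2 = 0 then x.val + 1 else x.val - 1) else x.val :=
    ⟨fun x => ⟨if x.val < 8 then (if x.val % 2 = 0 then x.val + 1 else x.val - 1) else x.val, by
      have := x.isLt; split_ifs <;> omega⟩, fun _ => rfl⟩
  have hinv : Function.Involutive p := by
    intro x
    apply Fin.ext
    rw [hp, hp]
    split_ifs <;> omega
  obtain ⟨ι, hι⟩ : ∃ ι : Perm (Fin n), ∀ x, ι x = p x := ⟨hinv.toPerm p, fun _ => rfl⟩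
  have hιι : ∀ x, ι (ι x) = x := fun x => by rw [hι, hι, hinv]
  have hmoved : ∀ x : Fin n, ι x ≠ x ↔ x.val < 8 := by
    intro x
    rw [ne_eq, hι, Fin.ext_iff, hp]
    split_ifs <;> omega
  have hsupp : ι.support = (Finset.univ : Finset (Fin 8)).map (Fin.castLEEmb hn) := by
    ext x
    rw [mem_support, hmoved, Finset.mem_map]
    exact ⟨fun h => ⟨⟨x.val, h⟩, Finset.mem_univ _, Fin.ext rfl⟩,
      fun ⟨a, _, e⟩ => by rw [← e]; exact a.isLt⟩
  have h8 : ι.support.card = 8 := by rw [hsupp, Finset.card_map, Finset.card_univ, Fintype.card_fin]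
  obtain ⟨S, hSdef⟩ : ∃ S : Set (Perm (Fin n)), ∀ s, s ∈ S ↔ ∃ x y, ι x ≠ x ∧ ι y ≠ y ∧ y ≠ x ∧
      y ≠ ι x ∧ s = swap x (ι x) * swap y (ι y) := ⟨{s | _}, fun _ => Iff.rfl⟩
  have hcs : ∀ x z, Commute (swap x (ι x)) (swap z (ι z)) := by
    intro x z
    by_cases h1 : z = x
    · rw [h1]
    by_cases h2 : z = ι x
    · rw [h2, hιι, swap_comm (ι x) x]
    exact swap_disjoint_swap h1 h2 (fun e => h2 (by rw [← e, hιι]))
      (fun e => h1 (ι.injective e))
  obtain ⟨g, hg⟩ := exists_conj_mem_of_sylow hS (S := S)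
    (fun s hs => by
      obtain ⟨x, y, hx, hy, -, -, rfl⟩ := (hSdef s).1 hs
      rw [Perm.sign_mul, Perm.sign_swap (Ne.symm hx), Perm.sign_swap (Ne.symm hy)]
      rfl)
    (fun s hs r hr => by
      obtain ⟨x, y, -, -, -, -, rfl⟩ := (hSdef s).1 hs
      obtain ⟨z, w, -, -, -, -, rfl⟩ := (hSdef r).1 hr
      exact (((hcs x z).mul_right (hcs x w)).mul_left ((hcs y z).mul_right (hcs y w))).eq)
    (fun s hs => by
      obtain ⟨x, y, -, -, -, -, rfl⟩ := (hSdef s).1 hs
      rw [(hcs x y).mul_pow, pow_two, pow_two, swap_mul_self, swap_mul_self, one_mul])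
  have hκ : PairingIn H (g * ι * g⁻¹) := by
    refine ⟨fun x => ?_, by rw [card_support_conj, h8], fun x y hx hy h1 h2 => ?_⟩
    · show g (ι (g⁻¹ (g (ι (g⁻¹ x))))) = x
      simp [hιι]
    · obtain ⟨x', rfl⟩ := g.surjective x
      obtain ⟨y', rfl⟩ := g.surjective y
      have e : ∀ z, (g * ι * g⁻¹) (g z) = g (ι z) := by intro z; simp
      rw [e] at hx hy h2 ⊢
      rw [e, swap_apply_apply, swap_apply_apply,
        show g * swap x' (ι x') * g⁻¹ * (g * swap y' (ι y') * g⁻¹) =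
          g * (swap x' (ι x') * swap y' (ι y')) * g⁻¹ by group]
      exact hg _ ((hSdef _).2 ⟨x', y', fun c => hx (congrArg g c), fun c => hy (congrArg g c),
        fun c => h1 (congrArg g c), fun c => h2 (congrArg g c), rfl⟩)
  have hκH : g * ι * g⁻¹ ∈ H := by
    obtain ⟨a, ha⟩ : ∃ a : Fin 8 → Fin n, ∀ i, (a i).val = i.val :=
      ⟨fun i => Fin.castLE hn i, fun _ => rfl⟩
    have hb : ∀ i : Fin 8, i.val % 2 = 0 → (ι (a i)).val = i.val + 1 := by
      intro i hi
      rw [hι, hp, ha, ite_cond_eq_true _ _ (eq_true i.isLt), ite_cond_eq_true _ _ (eq_true hi)]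
    have hmv : ∀ i : Fin 8, ι (a i) ≠ a i := fun i => (hmoved _).2 (by rw [ha]; exact i.isLt)
    have hdist : ∀ i j : Fin 8, i.val % 2 = 0 → j.val % 2 = 0 → i ≠ j →
        a j ≠ a i ∧ a j ≠ ι (a i) := by
      intro i j hi hj hij
      refine ⟨fun e => hij (Fin.ext ?_), fun e => ?_⟩ <;> have h1 := congrArg Fin.val e
      · rw [ha, ha] at h1; exact h1.symm
      · rw [ha, hb i hi] at h1; omega
    have e : ι = (swap (a 0) (ι (a 0)) * swap (a 2) (ι (a 2))) *
        (swap (a 4) (ι (a 4)) * swap (a 6) (ι (a 6))) := by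
      have hfixp : ∀ (i : Fin 8) (y : Fin n), i.val % 2 = 0 → y.val / 2 ≠ i.val / 2 →
          swap (a i) (ι (a i)) y = y := by
        intro i y hi hy
        refine swap_apply_of_ne_of_ne (fun h => hy ?_) (fun h => hy ?_)
        · rw [h, ha]
        · rw [h, hb i hi]; omega
      have hmovp : ∀ (i : Fin 8) (y : Fin n), i.val % 2 = 0 → y.val / 2 = i.val / 2 →
          swap (a i) (ι (a i)) y = ι y := by
        intro i y hi hy
        rcases Nat.mod_two_eq_zero_or_one y.val with hpar | hpar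
        · rw [show y = a i from Fin.ext (by rw [ha]; omega), swap_apply_left]
        · rw [show y = ι (a i) from Fin.ext (by rw [hb i hi]; omega), swap_apply_right, hιι]
      have hhalf : ∀ y : Fin n, (ι y).val / 2 = y.val / 2 := by
        intro y
        rw [hι, hp]
        split_ifs <;> omega
      have v0 : ((0 : Fin 8).val) = 0 := rfl
      have v2 : ((2 : Fin 8).val) = 2 := rfl
      have v4 : ((4 : Fin 8).val) = 4 := rfl
      have v6 : ((6 : Fin 8).val) = 6 := rfl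
      refine Equiv.ext fun x => ?_
      simp only [Perm.mul_apply]
      have hx := hhalf x
      by_cases c6 : x.val / 2 = 3
      · rw [hmovp 6 x rfl (by omega), hfixp 4 _ rfl (by omega), hfixp 2 _ rfl (by omega),
          hfixp 0 _ rfl (by omega)]
      rw [hfixp 6 x rfl (by omega)]
      by_cases c4 : x.val / 2 = 2
      · rw [hmovp 4 x rfl (by omega), hfixp 2 _ rfl (by omega), hfixp 0 _ rfl (by omega)]
      rw [hfixp 4 x rfl (by omega)]
      by_cases c2 : x.val / 2 = 1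
      · rw [hmovp 2 x rfl (by omega), hfixp 0 _ rfl (by omega)]
      rw [hfixp 2 x rfl (by omega)]
      by_cases c0 : x.val / 2 = 0
      · rw [hmovp 0 x rfl (by omega)]
      rw [hfixp 0 x rfl (by omega)]
      exact not_not.1 fun h => absurd ((hmoved x).1 h) (by omega)
    rw [e, show g * ((swap (a 0) (ι (a 0)) * swap (a 2) (ι (a 2))) *
      (swap (a 4) (ι (a 4)) * swap (a 6) (ι (a 6)))) * g⁻¹ =
      (g * (swap (a 0) (ι (a 0)) * swap (a 2) (ι (a 2))) * g⁻¹) *
      (g * (swap (a 4) (ι (a 4)) * swap (a 6) (ι (a 6))) * g⁻¹) by group]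
    exact H.mul_mem
      (hg _ ((hSdef _).2 ⟨a 0, a 2, hmv 0, hmv 2, (hdist 0 2 rfl rfl (by decide)).1,
        (hdist 0 2 rfl rfl (by decide)).2, rfl⟩))
      (hg _ ((hSdef _).2 ⟨a 4, a 6, hmv 4, hmv 6, (hdist 4 6 rfl rfl (by decide)).1,
        (hdist 4 6 rfl rfl (by decide)).2, rfl⟩))
  exact exists_threeCycle_of_pairing hF hκ hκH (by rw [card_support_conj, h8])

/-- every four-block of the Sylow subgroup lies in the support `Δ` -/
theorem le_card_of_sylow_two
    (hS : ∃ P : Sylow 2 ↥(alternatingGroup (Fin n)),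
      ((P : Subgroup ↥(alternatingGroup (Fin n))).map (alternatingGroup (Fin n)).subtype) ≤ H)
    {Δ : Finset (Fin n)} (hinv : ∀ h ∈ H, ∀ x, h x ∈ Δ ↔ x ∈ Δ)
    (hsmall : ∀ x ∈ H, x ≠ 1 → x.support.card ≤ 4 → ∃ a ∈ Δ, x a ≠ a) :
    4 * (n / 4) ≤ Δ.card := by
  classical
  obtain ⟨f, hf⟩ : ∃ f : Fin (n / 4) → Fin 4 → Fin n, ∀ i j, (f i j).val = 4 * i.val + j.val :=
    ⟨fun i j => ⟨4 * i.val + j.val, by have := i.isLt; have := j.isLt; omega⟩, fun _ _ => rfl⟩
  obtain ⟨d1, hd1⟩ : ∃ d : Fin (n / 4) → Perm (Fin n),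
      ∀ i, d i = swap (f i 0) (f i 1) * swap (f i 2) (f i 3) := ⟨_, fun _ => rfl⟩
  obtain ⟨d2, hd2⟩ : ∃ d : Fin (n / 4) → Perm (Fin n),
      ∀ i, d i = swap (f i 0) (f i 2) * swap (f i 1) (f i 3) := ⟨_, fun _ => rfl⟩
  have hfne : ∀ i, ∀ j k : Fin 4, j ≠ k → f i j ≠ f i k := by
    intro i j k hjk e
    have h1 := congrArg Fin.val e
    rw [hf, hf] at h1
    exact hjk (Fin.ext (by omega))
  have hout : ∀ i, ∀ x : Fin n, x.val / 4 ≠ i.val → d1 i x = x ∧ d2 i x = x := by
    intro i x hx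
    have h : ∀ j, x ≠ f i j := by
      intro j e
      have h1 := congrArg Fin.val e
      rw [hf] at h1
      have := j.isLt
      omega
    rw [hd1, hd2, Perm.mul_apply, Perm.mul_apply, swap_apply_of_ne_of_ne (h 2) (h 3),
      swap_apply_of_ne_of_ne (h 0) (h 1), swap_apply_of_ne_of_ne (h 1) (h 3),
      swap_apply_of_ne_of_ne (h 0) (h 2)]
    exact ⟨rfl, rfl⟩
  have hA : ∀ i j, d1 i (f i j) = f i (![1, 0, 3, 2] j) ∧ d2 i (f i j) = f i (![2, 3, 0, 1] j) := by
    intro i j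
    fin_cases j <;>
      simp [hd1, hd2, swap_apply_def, Fin.ext_iff, hf]
  have hsame : ∀ i, d1 i * d2 i = d2 i * d1 i := by
    intro i
    refine Equiv.ext fun x => ?_
    rw [Perm.mul_apply, Perm.mul_apply]
    by_cases hx : x.val / 4 = i.val
    · obtain ⟨j, rfl⟩ : ∃ j, x = f i j :=
        ⟨⟨x.val % 4, by omega⟩, Fin.ext (by rw [hf]; show x.val = 4 * i.val + x.val % 4; omega)⟩
      rw [(hA i j).1, (hA i j).2, (hA i _).1, (hA i _).2]
      congr 1
      fin_cases j <;> rfl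
    · rw [(hout i x hx).1, (hout i x hx).2, (hout i x hx).1]
  have hd : ∀ i, ∀ j k l m : Fin 4, j ≠ k → l ≠ m → j ≠ l → j ≠ m → k ≠ l → k ≠ m →
      Commute (swap (f i j) (f i k)) (swap (f i l) (f i m)) := fun i j k l m _ _ a b c d =>
    swap_disjoint_swap (hfne i _ _ a.symm) (hfne i _ _ c.symm) (hfne i _ _ b.symm) (hfne i _ _ d.symm)
  obtain ⟨g, hg⟩ := exists_conj_mem_of_sylow hS (S := Set.range d1 ∪ Set.range d2)
    (by
      rintro s (⟨i, rfl⟩ | ⟨i, rfl⟩) <;>
      · simp only [hd1, hd2, Perm.sign_mul]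
        rw [Perm.sign_swap (hfne i _ _ (by decide)), Perm.sign_swap (hfne i _ _ (by decide))]
        rfl)
    (by
      have hdis : ∀ i j : Fin (n / 4), i ≠ j → ∀ a b : Perm (Fin n),
          (∀ x : Fin n, x.val / 4 ≠ i.val → a x = x) → (∀ x : Fin n, x.val / 4 ≠ j.val → b x = x) →
          a * b = b * a := fun i j hij a b ha hb => (Perm.Disjoint.commute fun x => by
            by_cases hx : x.val / 4 = i.val
            · exact Or.inr (hb x fun e => hij (Fin.ext (hx.symm.trans e)))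
            · exact Or.inl (ha x hx)).eq
      rintro s (⟨i, rfl⟩ | ⟨i, rfl⟩) r (⟨j, rfl⟩ | ⟨j, rfl⟩) <;> by_cases hij : i = j
      · rw [hij]
      · exact hdis i j hij _ _ (fun x h => (hout i x h).1) fun x h => (hout j x h).1
      · rw [hij, hsame]
      · exact hdis i j hij _ _ (fun x h => (hout i x h).1) fun x h => (hout j x h).2
      · rw [hij, hsame]
      · exact hdis i j hij _ _ (fun x h => (hout i x h).2) fun x h => (hout j x h).1
      · rw [hij]
      · exact hdis i j hij _ _ (fun x h => (hout i x h).2) fun x h => (hout j x h).2)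
    (by
      rintro s (⟨i, rfl⟩ | ⟨i, rfl⟩)
      · rw [hd1, (hd i 0 1 2 3 (by decide) (by decide) (by decide) (by decide) (by decide) (by decide)).mul_pow,
          pow_two, pow_two, swap_mul_self, swap_mul_self, one_mul]
      · rw [hd2, (hd i 0 2 1 3 (by decide) (by decide) (by decide) (by decide) (by decide) (by decide)).mul_pow,
          pow_two, pow_two, swap_mul_self, swap_mul_self, one_mul])
  have hm1 : ∀ i, g * d1 i * g⁻¹ ∈ H := fun i => hg _ (Or.inl ⟨i, rfl⟩)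
  have hm2 : ∀ i, g * d2 i * g⁻¹ ∈ H := fun i => hg _ (Or.inr ⟨i, rfl⟩)
  have hiff1 : ∀ i x, g (d1 i x) ∈ Δ ↔ g x ∈ Δ := fun i x => by
    simpa using hinv _ (hm1 i) (g x)
  have hiff2 : ∀ i x, g (d2 i x) ∈ Δ ↔ g x ∈ Δ := fun i x => by
    simpa using hinv _ (hm2 i) (g x)
  have hcover : ∀ i j, g (f i j) ∈ Δ := by
    intro i
    have e01 : d1 i (f i 0) = f i 1 := (hA i 0).1
    have e23 : d1 i (f i 2) = f i 3 := (hA i 2).1
    have e02 : d2 i (f i 0) = f i 2 := (hA i 0).2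
    have q1 : g (f i 1) ∈ Δ ↔ g (f i 0) ∈ Δ := e01 ▸ hiff1 i (f i 0)
    have q3 : g (f i 3) ∈ Δ ↔ g (f i 2) ∈ Δ := e23 ▸ hiff1 i (f i 2)
    have q2 : g (f i 2) ∈ Δ ↔ g (f i 0) ∈ Δ := e02 ▸ hiff2 i (f i 0)
    have hne1 : g * d1 i * g⁻¹ ≠ 1 := by
      rw [ne_eq, conj_eq_one_iff]
      intro e
      rw [e, Perm.one_apply] at e01
      exact hfne i 0 1 (by decide) e01
    have h4 : (g * d1 i * g⁻¹).support.card ≤ 4 := by
      rw [card_support_conj, hd1]
      refine (Finset.card_le_card (support_mul_le _ _)).trans ?_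
      refine (Finset.card_union_le _ _).trans ?_
      rw [card_support_swap (hfne i _ _ (by decide)), card_support_swap (hfne i _ _ (by decide))]
    obtain ⟨a, haΔ, ha⟩ := hsmall _ (hm1 i) hne1 h4
    obtain ⟨x, rfl⟩ := g.surjective a
    have hx : d1 i x ≠ x := fun e => ha (by simp [e])
    have hxf : x = f i 0 ∨ x = f i 1 ∨ x = f i 2 ∨ x = f i 3 := by
      by_contra hno
      push Not at hno
      obtain ⟨n0, n1, n2, n3⟩ := hno
      exact hx (by rw [hd1, Perm.mul_apply, swap_apply_of_ne_of_ne n2 n3, swap_apply_of_ne_of_ne n0 n1])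
    have h0 : g (f i 0) ∈ Δ := by
      rcases hxf with rfl | rfl | rfl | rfl
      · exact haΔ
      · exact q1.1 haΔ
      · exact q2.1 haΔ
      · exact q2.1 (q3.1 haΔ)
    intro j
    fin_cases j
    · exact h0
    · exact q1.2 h0
    · exact q2.2 h0
    · exact q3.2 (q2.2 h0)
  obtain ⟨φ, hφ⟩ : ∃ φ : Fin (4 * (n / 4)) → Fin n, ∀ j, (φ j).val = j.val :=
    ⟨fun j => ⟨j.val, by have := j.isLt; omega⟩, fun _ => rfl⟩
  have hle := Finset.card_le_card_of_injOn (fun j => g (φ j)) (s := Finset.univ) (t := Δ)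
    (fun j _ => by
      have := j.isLt
      have h := hcover ⟨j.val / 4, by omega⟩ ⟨j.val % 4, by omega⟩
      rwa [show f ⟨j.val / 4, by omega⟩ ⟨j.val % 4, by omega⟩ = φ j from Fin.ext (by
        rw [hf, hφ]; show 4 * (j.val / 4) + j.val % 4 = j.val; omega)] at h)
    (fun a _ b _ hab => by
      have := congrArg Fin.val (g.injective hab)
      rw [hφ, hφ] at this
      exact Fin.ext this)
  simpa using hle

end CfsgLib.Perm.SylowOvergroups
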