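import Cfsg.Agent.Lib.Perm.SylowOvergroups.Basic

/-!
# Overgroups with quasisimple generalized Fitting subgroup containing a three-cycle
-/

set_option autoImplicit false
set_option linter.unusedSectionVars false
set_option linter.style.haveILetI false

namespace CfsgLib.Perm.SylowOvergroups

open Equiv Equiv.Perm
open Subgroup (centralizer normalizer)

variable {α : Type*} [Fintype α] [DecidableEq α] {H : Subgroup (Perm α)}

/-- the three-cycle `a → b → c → a` -/
def cyc3 (a b c : α) : Perm α := swap a b * swap b c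

theorem cyc3_conj (u : Perm α) (a b c : α) :
    u * cyc3 a b c * u⁻¹ = cyc3 (u a) (u b) (u c) := by
  rw [cyc3, cyc3, swap_apply_apply, swap_apply_apply]
  group

theorem cyc3_inv (a b c : α) : (cyc3 a b c)⁻¹ = swap b c * swap a b := by
  rw [cyc3, mul_inv_rev, swap_inv, swap_inv]

theorem cyc3_rotate {a b c : α} (hab : a ≠ b) (hac : a ≠ c) (hbc : b ≠ c) :
    cyc3 a b c = cyc3 b c a := by
  ext x
  simp only [cyc3, Perm.mul_apply, swap_apply_def]
  grind

theorem cyc3_inv_eq {a b c : α} (hab : a ≠ b) (hac : a ≠ c) (hbc : b ≠ c) :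
    (cyc3 a b c)⁻¹ = cyc3 c b a := by
  rw [cyc3_inv, cyc3, swap_comm b c, swap_comm a b]

/-- `a` and `b` lie in the support of one three-cycle of `H`, or are equal -/
def Rel (H : Subgroup (Perm α)) (a b : α) : Prop :=
  a = b ∨ ∃ t ∈ H, IsThreeCycle t ∧ a ∈ t.support ∧ b ∈ t.support

theorem rel_symm {a b : α} (h : Rel H a b) : Rel H b a := by
  rcases h with e | ⟨t, htH, ht, ha, hb⟩
  · exact Or.inl e.symm
  · exact Or.inr ⟨t, htH, ht, hb, ha⟩

theorem eq_or_of_mem_support {t : Perm α} (ht : IsThreeCycle t) {a b : α} (ha : a ∈ t.support)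
    (hb : b ∈ t.support) : b = a ∨ b = t a ∨ b = t (t a) := by
  rw [(ht.support_eq_iff_mem_support (a := a)).2 ha] at hb
  simpa using hb

theorem rel_trans {a b c : α} (h1 : Rel H a b) (h2 : Rel H b c) : Rel H a c := by
  rcases h1 with e | ⟨t, htH, ht, hat, hbt⟩
  · rwa [e]
  rcases h2 with e | ⟨s, hsH, hs, hbs, hcs⟩
  · exact Or.inr ⟨t, htH, ht, hat, e ▸ hbt⟩
  by_cases hct : c ∈ t.support
  · exact Or.inr ⟨t, htH, ht, hat, hct⟩
  by_cases has : a ∈ s.support
  · exact Or.inr ⟨s, hsH, hs, has, hcs⟩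
  rcases eq_or_of_mem_support hs hbs hcs with e | e | e
  · exact absurd (e ▸ hbt) hct
  · refine Or.inr ⟨s * t * s⁻¹, H.mul_mem (H.mul_mem hsH htH) (H.inv_mem hsH), ?_, ?_, ?_⟩
    · exact (cycleType_conj).trans ht
    · rw [support_conj]
      exact Finset.mem_map.2 ⟨a, hat, notMem_support.1 has⟩
    · rw [support_conj]
      exact Finset.mem_map.2 ⟨b, hbt, e.symm⟩
  · refine Or.inr ⟨(s * s) * t * (s * s)⁻¹,
      H.mul_mem (H.mul_mem (H.mul_mem hsH hsH) htH) (H.inv_mem (H.mul_mem hsH hsH)), ?_, ?_, ?_⟩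
    · exact (cycleType_conj).trans ht
    · rw [support_conj]
      refine Finset.mem_map.2 ⟨a, hat, ?_⟩
      show s (s a) = a
      rw [notMem_support.1 has, notMem_support.1 has]
    · rw [support_conj]
      exact Finset.mem_map.2 ⟨b, hbt, e.symm⟩

/-- two related points lie in a named three-cycle of `H` -/
theorem exists_cyc3_mem {a b : α} (hab : a ≠ b) (h : Rel H a b) :
    ∃ d, d ≠ a ∧ d ≠ b ∧ cyc3 a b d ∈ H := by
  obtain ⟨t, htH, ht, ha, hb⟩ := h.resolve_left hab
  have hn := ht.nodup_iff_mem_support.2 ha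
  simp only [List.nodup_cons, List.mem_cons, List.not_mem_nil, or_false, not_or,
    List.nodup_nil, and_true, not_false_iff] at hn
  obtain ⟨⟨h1, h2⟩, h3⟩ := hn
  have hcyc : t = cyc3 a (t a) (t (t a)) := ht.eq_swap_mul_swap_iff_mem_support.2 ha
  rcases eq_or_of_mem_support ht ha hb with e | e | e
  · exact absurd e.symm hab
  · exact ⟨t (t a), fun x => h2 x.symm, fun x => h3 (e ▸ x.symm), by rwa [e, ← hcyc]⟩
  · refine ⟨t a, fun x => h1 x.symm, fun x => h3 (e ▸ x), ?_⟩
    have : cyc3 a b (t a) = t⁻¹ := by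
      conv_rhs => rw [hcyc]
      rw [cyc3_inv_eq h1 h2 h3, e]
      exact cyc3_rotate h2 h1 (Ne.symm h3)
    rw [this]
    exact H.inv_mem htH

theorem cyc3_mem_of_two {a b c d : α} (hab : a ≠ b) (hac : a ≠ c) (had : a ≠ d) (hbc : b ≠ c)
    (hbd : b ≠ d) (hcd : c ≠ d) (h1 : cyc3 a b d ∈ H) (h2 : cyc3 a c d ∈ H) :
    cyc3 a b c ∈ H := by
  have h3 := H.mul_mem (H.mul_mem h2 h1) (H.inv_mem h2)
  rw [cyc3_conj] at h3
  have e1 : cyc3 a c d a = c := by simp [cyc3, swap_apply_def] <;> grind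
  have e2 : cyc3 a c d b = b := by simp [cyc3, swap_apply_def] <;> grind
  have e3 : cyc3 a c d d = a := by simp [cyc3, swap_apply_def] <;> grind
  rw [e1, e2, e3] at h3
  have h4 := H.inv_mem h3
  rwa [cyc3_inv_eq hbc.symm hac.symm hab.symm] at h4

/-- all three-cycles inside a class lie in `H` -/
theorem cyc3_mem_of_rel {a b c : α} (hab : a ≠ b) (hac : a ≠ c) (hbc : b ≠ c) (h1 : Rel H a b)
    (h2 : Rel H a c) : cyc3 a b c ∈ H := by
  obtain ⟨d, hda, hdb, hd⟩ := exists_cyc3_mem hab h1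
  by_cases hdc : d = c
  · rwa [hdc] at hd
  obtain ⟨e, hea, hec, he⟩ := exists_cyc3_mem hac h2
  by_cases heb : e = b
  · have := H.inv_mem he
    rw [cyc3_inv_eq hac (Ne.symm hea) (Ne.symm hec), heb] at this
    rwa [cyc3_rotate hbc (Ne.symm hab) (Ne.symm hac), cyc3_rotate (Ne.symm hac) hbc.symm hab] at this
  by_cases hed : e = d
  · exact cyc3_mem_of_two hab hac (Ne.symm hda) hbc (Ne.symm hdb) (fun x => hdc x.symm) hd
      (hed ▸ he)
  have h3 := H.mul_mem (H.mul_mem he hd) (H.inv_mem he)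
  rw [cyc3_conj] at h3
  have e1 : cyc3 a c e a = c := by simp [cyc3, swap_apply_def] <;> grind
  have e2 : cyc3 a c e b = b := by simp [cyc3, swap_apply_def] <;> grind
  have e3 : cyc3 a c e d = d := by simp [cyc3, swap_apply_def] <;> grind
  rw [e1, e2, e3] at h3
  have h4 := H.mul_mem (H.mul_mem h3 hd) (H.inv_mem h3)
  rw [cyc3_conj] at h4
  have f1 : cyc3 c b d a = a := by simp [cyc3, swap_apply_def] <;> grind
  have f2 : cyc3 c b d b = d := by simp [cyc3, swap_apply_def] <;> grind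
  have f3 : cyc3 c b d d = c := by simp [cyc3, swap_apply_def] <;> grind
  rw [f1, f2, f3] at h4
  have h5 := H.inv_mem h4
  rw [cyc3_inv_eq (Ne.symm hda) hac hdc, cyc3_rotate (Ne.symm fun x => hdc x) hac.symm hda,
    cyc3_rotate hda hdc hac] at h5
  exact cyc3_mem_of_two hab hac (Ne.symm hda) hbc (Ne.symm hdb) (fun x => hdc x.symm) hd h5

end CfsgLib.Perm.SylowOvergroups
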